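import Cfsg.Agent.Lib.SteinbergSemisimple.Mobius
import Mathlib.RingTheory.SimpleModule.Basic
import Mathlib.RingTheory.AdjoinRoot
import Mathlib.LinearAlgebra.Charpoly.ToMatrix
import Mathlib.LinearAlgebra.Charpoly.Basic
import Mathlib.RingTheory.UniqueFactorizationDomain.NormalizedFactors

/-!
The Möbius function of the lattice of submodules of a finite semisimple module over the polynomial
ring of a finite field.
-/

set_option autoImplicit false
set_option linter.unusedSectionVars false

namespace CfsgLib.SteinbergSemisimple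

open Polynomial UniqueFactorizationMonoid
open scoped Classical

variable {F : Type*} [Field F] [Fintype F]

/-- The factor belonging to a monic irreducible polynomial. -/
noncomputable def factor (q : ℕ) (P f : F[X]) : ℤ :=
  (-1 : ℤ) ^ ((f.natDegree - 1) * (normalizedFactors P).count f) *
    (q : ℤ) ^ (f.natDegree * ((normalizedFactors P).count f).choose 2)

/-- The product of all factors. -/
noncomputable def value (q : ℕ) (P : F[X]) : ℤ :=
  ∏ f ∈ (normalizedFactors P).toFinset, factor q P f

theorem value_eq_prod {q : ℕ} {P : F[X]} {S : Finset F[X]} (hS : (normalizedFactors P).toFinset ⊆ S) :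
    value q P = ∏ f ∈ S, factor q P f :=
  Finset.prod_subset hS fun f _ hf => by
    rw [Multiset.mem_toFinset] at hf
    simp [factor, Multiset.count_eq_zero.2 hf]

theorem value_mul_irreducible {q : ℕ} {f P : F[X]} (hf : Irreducible f) (hfm : f.Monic) (hP : P ≠ 0) :
    value q (f * P) = (-1 : ℤ) ^ (f.natDegree - 1) *
      (q : ℤ) ^ (f.natDegree * (normalizedFactors P).count f) * value q P := by
  have hnf : normalizedFactors (f * P) = f ::ₘ normalizedFactors P := by
    rw [normalizedFactors_mul hf.ne_zero hP, normalizedFactors_irreducible hf,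
      hfm.normalize_eq_self, Multiset.singleton_add]
  rw [value_eq_prod (P := P) (S := insert f (normalizedFactors P).toFinset) (Finset.subset_insert _ _),
    value_eq_prod (P := f * P) (S := insert f (normalizedFactors P).toFinset)
      (by rw [hnf, Multiset.toFinset_cons]),
    ← Finset.mul_prod_erase _ _ (Finset.mem_insert_self f _),
    ← Finset.mul_prod_erase (a := f) _ (fun g => factor q P g) (Finset.mem_insert_self f _),
    Finset.prod_congr rfl (g := fun g => factor q P g) fun g hg => by
      rw [factor, factor, hnf, Multiset.count_cons_of_ne (Finset.mem_erase.1 hg).1]]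
  have hfac : factor q (f * P) f = (-1 : ℤ) ^ (f.natDegree - 1) *
      (q : ℤ) ^ (f.natDegree * (normalizedFactors P).count f) * factor q P f := by
    rw [factor, factor, hnf, Multiset.count_cons_self, Nat.choose_succ_succ, Nat.choose_one_right,
      mul_add_one, pow_add, mul_add, pow_add]
    ring
  rw [hfac]
  ring

/-- Multiplication by the variable. -/
noncomputable def mulX (N : Type*) [AddCommGroup N] [Module F N] [Module F[X] N]
    [IsScalarTower F F[X] N] : N →ₗ[F] N :=
  (LinearMap.lsmul F[X] N X).restrictScalars F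

theorem aeval_mulX {N : Type*} [AddCommGroup N] [Module F N] [Module F[X] N]
    [IsScalarTower F F[X] N] (P : F[X]) (v : N) : aeval (mulX (F := F) N) P v = P • v := by
  have h : mulX (F := F) N = Algebra.lsmul F F N (X : F[X]) := rfl
  rw [h, aeval_algHom_apply, aeval_X_left_apply]
  rfl

theorem charpoly_congr {N N' : Type*} [AddCommGroup N] [Module F N] [Module F[X] N]
    [IsScalarTower F F[X] N] [AddCommGroup N'] [Module F N'] [Module F[X] N']
    [IsScalarTower F F[X] N'] [Finite N] [Finite N'] (e : N ≃ₗ[F[X]] N') :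
    (mulX (F := F) N').charpoly = (mulX (F := F) N).charpoly := by
  rw [← LinearEquiv.charpoly_conj (e.restrictScalars F) (mulX (F := F) N)]
  congr 1
  refine LinearMap.ext fun v => ?_
  show (X : F[X]) • v = e ((X : F[X]) • e.symm v)
  rw [map_smul, LinearEquiv.apply_symm_apply]

theorem simple_data {A : Type*} [AddCommGroup A] [Module F A] [Module F[X] A]
    [IsScalarTower F F[X] A] [Finite A] [IsSimpleModule F[X] A] :
    ∃ f : F[X], f.Monic ∧ Irreducible f ∧ (mulX (F := F) A).charpoly = f ∧
      Module.finrank F A = f.natDegree ∧ (∀ v : A, f • v = 0) ∧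
      Nonempty (A ≃ₗ[F[X]] F[X] ⧸ Ideal.span {f}) := by
  obtain ⟨I, hI, ⟨e⟩⟩ := isSimpleModule_iff_quot_maximal.1 ‹IsSimpleModule F[X] A›
  obtain ⟨f₀, rfl⟩ : ∃ f₀, I = Ideal.span {f₀} :=
    ⟨_, (Ideal.span_singleton_generator I).symm⟩
  have hf0 : f₀ ≠ 0 := by
    rintro rfl
    have he : Finite F[X] := by
      have : Finite (F[X] ⧸ Ideal.span {(0 : F[X])}) := Finite.of_equiv A e.toEquiv
      refine Finite.of_injective (Submodule.Quotient.mk : F[X] → F[X] ⧸ Ideal.span {(0 : F[X])})
        fun a b h => ?_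
      rw [Submodule.Quotient.eq, Ideal.mem_span_singleton, zero_dvd_iff, sub_eq_zero] at h
      exact h
    exact not_finite F[X]
  set f := normalize f₀ with hfdef
  have hspan : Ideal.span {f} = Ideal.span {f₀} :=
    Ideal.span_singleton_eq_span_singleton.2 (normalize_associated f₀)
  have hm : f.Monic := Polynomial.monic_normalize hf0
  have hirr : Irreducible f := by
    have hmax : (Ideal.span {f}).IsMaximal := hspan ▸ hI
    exact ((Ideal.span_singleton_prime hm.ne_zero).1 hmax.isPrime).irreducible
  rw [← hspan] at e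
  have hkill : ∀ v : A, f • v = 0 := fun v => e.injective (by
    rw [map_smul, map_zero]
    obtain ⟨r, hr⟩ := Submodule.Quotient.mk_surjective _ (e v)
    rw [← hr, ← Submodule.Quotient.mk_smul, Submodule.Quotient.mk_eq_zero, smul_eq_mul]
    exact Ideal.mul_mem_right _ _ (Ideal.mem_span_singleton_self f))
  have hfr : Module.finrank F A = f.natDegree := by
    rw [(e.restrictScalars F).finrank_eq]
    exact finrank_quotient_span_eq_natDegree
  refine ⟨f, hm, hirr, ?_, hfr, hkill, ⟨e⟩⟩
  have hdvd : f ∣ (mulX (F := F) A).charpoly := by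
    rw [← Ideal.mem_span_singleton, ← Submodule.Quotient.mk_eq_zero]
    obtain ⟨v, hv⟩ := e.surjective (Submodule.Quotient.mk 1)
    have h := LinearMap.congr_fun (LinearMap.aeval_self_charpoly (mulX (F := F) A)) v
    rw [aeval_mulX, LinearMap.zero_apply] at h
    have h2 := congrArg e h
    rw [map_smul, map_zero, hv, ← Submodule.Quotient.mk_smul, smul_eq_mul, mul_one] at h2
    exact h2
  exact (eq_of_monic_of_dvd_of_natDegree_le hm (LinearMap.charpoly_monic _) hdvd
    (by rw [LinearMap.charpoly_natDegree, hfr]))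

variable {M : Type*} [AddCommGroup M] [Module F M] [Module F[X] M] [IsScalarTower F F[X] M]
  [Finite M]

/-- The characteristic polynomial of the variable on a submodule. -/
noncomputable def subCharpoly (N : Submodule F[X] M) : F[X] := (mulX (F := F) N).charpoly

theorem subCharpoly_ne_zero (N : Submodule F[X] M) : subCharpoly N ≠ 0 :=
  (LinearMap.charpoly_monic _).ne_zero

theorem split {A B N : Submodule F[X] M} (h1 : A ⊔ B = N) (h2 : A ⊓ B = ⊥) :
    subCharpoly N = subCharpoly A * subCharpoly B ∧
      Module.finrank F N = Module.finrank F A + Module.finrank F B ∧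
      Nonempty ((A × B) ≃ₗ[F[X]] N) := by
  have hinj : Function.Injective (A.subtype.coprod B.subtype) := by
    rw [← LinearMap.ker_eq_bot, LinearMap.ker_coprod_of_disjoint_range _ _
      (by simpa [disjoint_iff] using h2)]
    simp
  let e : (A × B) ≃ₗ[F[X]] N := (LinearEquiv.ofInjective _ hinj).trans
    (LinearEquiv.ofEq _ _ (by rw [LinearMap.range_coprod, Submodule.range_subtype,
      Submodule.range_subtype, h1]))
  refine ⟨?_, by rw [← (e.restrictScalars F).finrank_eq, Module.finrank_prod], ⟨e⟩⟩
  have he := charpoly_congr (F := F) e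
  rw [subCharpoly, he, show mulX (F := F) (A × B) = (mulX A).prodMap (mulX B) from
    LinearMap.ext fun v => Prod.ext rfl rfl, LinearMap.charpoly_prodMap]
  rfl

theorem exists_simple_le {N : Submodule F[X] M} (hN : N ≠ ⊥) :
    ∃ A : Submodule F[X] M, A ≤ N ∧ IsAtom A := by
  obtain h | ⟨A, hA, hle⟩ := eq_bot_or_exists_atom_le N
  · exact absurd h hN
  · exact ⟨A, hle, hA⟩

theorem exists_compl_in [IsSemisimpleModule F[X] M] {A N : Submodule F[X] M} (h : A ≤ N) :
    ∃ B : Submodule F[X] M, A ⊔ B = N ∧ A ⊓ B = ⊥ := by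
  obtain ⟨C, hC⟩ := exists_isCompl A
  refine ⟨C ⊓ N, ?_, ?_⟩
  · rw [← sup_inf_assoc_of_le C h, hC.sup_eq_top, top_inf_eq]
  · rw [← inf_assoc, hC.inf_eq_bot, bot_inf_eq]

section hom

variable {A : Submodule F[X] M} {f : F[X]}

theorem card_hom [IsSemisimpleModule F[X] M] (hAs : IsAtom A) (hfm : f.Monic) (hf : Irreducible f)
    (hfA : ∀ v : A, f • v = 0) (hAr : Module.finrank F A = f.natDegree)
    (B : Submodule F[X] M) :
    Nat.card (B →ₗ[F[X]] A) =
      Fintype.card F ^ (f.natDegree * (normalizedFactors (subCharpoly B)).count f) := by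
  induction B using WellFoundedLT.induction with
  | _ B ih =>
    rcases eq_or_ne B ⊥ with rfl | hB
    · have h0 : subCharpoly (⊥ : Submodule F[X] M) = 1 := by
        refine (LinearMap.charpoly_monic _).natDegree_eq_zero.1 ?_
        rw [LinearMap.charpoly_natDegree]
        exact Module.finrank_zero_of_subsingleton
      rw [h0, normalizedFactors_one, Multiset.count_zero, mul_zero, pow_zero]
      exact Nat.card_eq_one_iff_unique.2 ⟨⟨fun g g' => LinearMap.ext fun v => by
        rw [Subsingleton.elim v 0, map_zero, map_zero]⟩, ⟨0⟩⟩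
    obtain ⟨A', hle, hA'⟩ := exists_simple_le hB
    obtain ⟨C, hC1, hC2⟩ := exists_compl_in hle
    have hlt : C < B := by
      refine lt_of_le_of_ne (hC1 ▸ le_sup_right) fun h => hA'.1 ?_
      rw [← inf_eq_left.2 hle, ← h, hC2]
    have : IsSimpleModule F[X] A' := isSimpleModule_iff_isAtom.2 hA'
    obtain ⟨f', hm', hirr', hcp, hr', hk', ⟨e'⟩⟩ := simple_data (F := F) (A := A')
    obtain ⟨hsp, -, ⟨e⟩⟩ := split hC1 hC2
    rw [← Nat.card_congr ((LinearMap.coprodEquiv F[X]).toEquiv.trans
        (e.arrowCongr (LinearEquiv.refl F[X] A)).toEquiv), Nat.card_prod, ih C hlt, hsp,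
      show subCharpoly A' = f' from hcp,
      normalizedFactors_mul hirr'.ne_zero (subCharpoly_ne_zero C),
      normalizedFactors_irreducible hirr', hm'.normalize_eq_self, Multiset.count_add,
      Multiset.count_singleton, mul_add, pow_add]
    congr 1
    by_cases hff : f = f'
    · subst hff
      rw [if_pos rfl, mul_one]
      have hA : Nat.card A = Fintype.card F ^ f.natDegree := by
        rw [Module.natCard_eq_pow_finrank (K := F), hAr, Nat.card_eq_fintype_card]
      rw [← hA]
      obtain ⟨v₀, hv₀⟩ := e'.surjective (Submodule.Quotient.mk 1)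
      refine Nat.card_congr (Equiv.ofBijective (fun g => g v₀) ⟨fun g g' h => ?_, fun a => ?_⟩)
      · refine LinearMap.ext fun v => ?_
        obtain ⟨r, hr⟩ := Submodule.Quotient.mk_surjective _ (e' v)
        have hv : v = r • v₀ := e'.injective (by
          rw [map_smul, hv₀, ← hr, ← Submodule.Quotient.mk_smul, smul_eq_mul, mul_one])
        rw [hv, map_smul, map_smul]
        exact congrArg (r • ·) h
      · have hker : Ideal.span {f} ≤ LinearMap.ker (LinearMap.toSpanSingleton F[X] A a) :=
          (Ideal.span_singleton_le_iff_mem _).2 (hfA a)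
        refine ⟨(Submodule.liftQ (Ideal.span {f}) (LinearMap.toSpanSingleton F[X] A a)
          hker).comp e'.toLinearMap, ?_⟩
        simp only [LinearMap.comp_apply, LinearEquiv.coe_coe]
        rw [hv₀, Submodule.liftQ_apply, LinearMap.toSpanSingleton_apply, one_smul]
    · rw [if_neg hff, mul_zero, pow_zero]
      refine Nat.card_eq_one_iff_unique.2 ⟨⟨fun g g' => LinearMap.ext fun v => ?_⟩, ⟨0⟩⟩
      have hco : IsCoprime f f' := hf.isCoprime_or_dvd f' |>.resolve_right fun hd =>
        hff (eq_of_monic_of_associated hfm hm' (hf.associated_of_dvd hirr' hd))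
      obtain ⟨s, t, hst⟩ := hco
      have hv : ∀ w : A, f' • w = 0 → w = 0 := fun w hw => by
        rw [← one_smul F[X] w, ← hst, add_smul, mul_smul, mul_smul, hfA, hw, smul_zero, smul_zero,
          add_zero]
      have h1 : ∀ g : A' →ₗ[F[X]] A, g v = 0 := fun g => hv _ (by rw [← map_smul, hk', map_zero])
      rw [h1, h1]

/-- Complements of `A` in `N` correspond to homomorphisms. -/
theorem complements {B N : Submodule F[X] M} (h1 : A ⊔ B = N) (h2 : A ⊓ B = ⊥) :
    Nat.card {W : Submodule F[X] M // W ≤ N ∧ W ⊔ A = N ∧ W ⊓ A = ⊥} = Nat.card (B →ₗ[F[X]] A) ∧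
      ∀ W : Submodule F[X] M, W ≤ N → W ⊔ A = N → W ⊓ A = ⊥ → Nonempty (B ≃ₗ[F[X]] W) := by
  have hAN : A ≤ N := h1 ▸ le_sup_left
  have hBN : B ≤ N := h1 ▸ le_sup_right
  have hdis : ∀ x, x ∈ A → x ∈ B → x = 0 := fun x hxA hxB =>
    (Submodule.mem_bot F[X]).1 (h2 ▸ Submodule.mem_inf.2 ⟨hxA, hxB⟩)
  let graph : (B →ₗ[F[X]] A) → (B →ₗ[F[X]] M) := fun g => B.subtype + A.subtype.comp g
  have ginj : ∀ g, Function.Injective (graph g) := fun g => by
    rw [injective_iff_map_eq_zero]
    intro v hv
    have : (v : M) = -(g v : M) := eq_neg_of_add_eq_zero_left hv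
    exact Subtype.ext (hdis _ (this ▸ A.neg_mem (g v).2) v.2)
  have hmem : ∀ g, LinearMap.range (graph g) ≤ N ∧ LinearMap.range (graph g) ⊔ A = N ∧
      LinearMap.range (graph g) ⊓ A = ⊥ := fun g => by
    have hle : LinearMap.range (graph g) ≤ N := by
      rintro _ ⟨v, rfl⟩
      exact N.add_mem (hBN v.2) (hAN (g v).2)
    refine ⟨hle, le_antisymm (sup_le hle hAN) ?_, ?_⟩
    · rw [← h1]
      refine sup_le le_sup_right fun x hx => ?_
      have : x = graph g ⟨x, hx⟩ + -(g ⟨x, hx⟩ : M) := by simp [graph]
      rw [this]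
      exact Submodule.add_mem_sup ⟨_, rfl⟩ (A.neg_mem (g _).2)
    · refine (Submodule.eq_bot_iff _).2 ?_
      rintro x ⟨⟨v, rfl⟩, hx⟩
      have hv : (v : M) = 0 := by
        refine hdis _ ?_ v.2
        have : (v : M) = graph g v - (g v : M) := by simp [graph]
        rw [this]
        exact A.sub_mem hx (g v).2
      rw [show v = 0 from Subtype.ext hv, map_zero]
  let Φ : (B →ₗ[F[X]] A) → {W : Submodule F[X] M // W ≤ N ∧ W ⊔ A = N ∧ W ⊓ A = ⊥} :=
    fun g => ⟨LinearMap.range (graph g), hmem g⟩
  have hΦ : Function.Bijective Φ := by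
    constructor
    · intro g g' h
      refine LinearMap.ext fun v => ?_
      obtain ⟨w, hw⟩ : graph g v ∈ LinearMap.range (graph g') := by
        have he : LinearMap.range (graph g) = LinearMap.range (graph g') := congrArg Subtype.val h
        rw [← he]
        exact ⟨v, rfl⟩
      change (w : M) + g' w = (v : M) + g v at hw
      have hwv : w = v := Subtype.ext (sub_eq_zero.1 (hdis _
        (by rw [show (w : M) - v = (g v : M) - g' w from by linear_combination (norm := abel) hw]
            exact A.sub_mem (g v).2 (g' w).2) (B.sub_mem w.2 v.2)))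
      subst hwv
      exact Subtype.ext (add_left_cancel hw).symm
    · rintro ⟨W, hW1, hW2, hW3⟩
      have hex : ∀ v : B, ∃ a : A, (v : M) + a ∈ W := fun v => by
        obtain ⟨w, hw, a, ha, hwa⟩ := Submodule.mem_sup.1 (hW2 ▸ hBN v.2 : (v : M) ∈ W ⊔ A)
        exact ⟨-⟨a, ha⟩, by simpa [← hwa] using hw⟩
      choose α hα using hex
      have huniq : ∀ (v : B) (a : A), (v : M) + a ∈ W → a = α v := fun v a ha => by
        have h := (Submodule.mem_bot F[X]).1 (hW3 ▸ Submodule.mem_inf.2
          ⟨(by simpa using W.sub_mem ha (hα v) : (a : M) - α v ∈ W), A.sub_mem a.2 (α v).2⟩)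
        exact Subtype.ext (sub_eq_zero.1 h)
      let g : B →ₗ[F[X]] A :=
        { toFun := α
          map_add' := fun u v => (huniq _ _ (by
            have := W.add_mem (hα u) (hα v)
            simpa [add_assoc, add_left_comm, add_comm] using this)).symm
          map_smul' := fun r v => (huniq _ _ (by
            simpa [smul_add] using W.smul_mem r (hα v))).symm }
      refine ⟨g, Subtype.ext ?_⟩
      show LinearMap.range (graph g) = W
      refine le_antisymm ?_ fun w hw => ?_
      · rintro _ ⟨v, rfl⟩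
        exact hα v
      · obtain ⟨a, ha, v, hv, hav⟩ := Submodule.mem_sup.1 (h1.symm ▸ hW1 hw : w ∈ A ⊔ B)
        refine ⟨⟨v, hv⟩, ?_⟩
        show v + (α ⟨v, hv⟩ : M) = w
        rw [← huniq ⟨v, hv⟩ ⟨a, ha⟩ (by show v + a ∈ W; rw [add_comm, hav]; exact hw), add_comm]
        exact hav
  refine ⟨(Nat.card_congr (Equiv.ofBijective Φ hΦ)).symm, fun W hW1 hW2 hW3 => ?_⟩
  obtain ⟨g, hg⟩ := hΦ.2 ⟨W, hW1, hW2, hW3⟩
  exact ⟨(LinearEquiv.ofInjective _ (ginj g)).trans (LinearEquiv.ofEq _ _ (congrArg Subtype.val hg))⟩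

end hom

variable [Fintype (Submodule F[X] M)]

/-- The Möbius function of a finite semisimple module. -/
theorem mu_semisimple [IsSemisimpleModule F[X] M] (N : Submodule F[X] M) :
    mu N = (-1 : ℤ) ^ Module.finrank F N * value (Fintype.card F) (subCharpoly N) := by
  induction N using WellFoundedLT.induction with
  | _ N ih =>
    rcases eq_or_ne N ⊥ with rfl | hN
    · have h0 : subCharpoly (⊥ : Submodule F[X] M) = 1 := by
        refine (LinearMap.charpoly_monic _).natDegree_eq_zero.1 ?_
        rw [LinearMap.charpoly_natDegree]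
        exact Module.finrank_zero_of_subsingleton
      rw [mu_bot, h0, value, normalizedFactors_one, Multiset.toFinset_zero, Finset.prod_empty,
        Module.finrank_zero_of_subsingleton, pow_zero, mul_one]
    obtain ⟨A, hAN, hA⟩ := exists_simple_le hN
    obtain ⟨B, hB1, hB2⟩ := exists_compl_in hAN
    have : IsSimpleModule F[X] A := isSimpleModule_iff_isAtom.2 hA
    obtain ⟨f, hfm, hf, hcp, hr, hk, -⟩ := simple_data (F := F) (A := A)
    obtain ⟨hsp, hfr, -⟩ := split hB1 hB2
    obtain ⟨hcard, hiso⟩ := complements hB1 hB2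
    have hw := weisner hA.1 N hAN
    have hsplit : Finset.univ.filter (fun W : Submodule F[X] M => W ≤ N ∧ W ⊔ A = N) =
        insert N (Finset.univ.filter fun W => W ≤ N ∧ W ⊔ A = N ∧ W ⊓ A = ⊥) := by
      ext W
      simp only [Finset.mem_filter, Finset.mem_univ, true_and, Finset.mem_insert]
      constructor
      · rintro ⟨hWN, hWA⟩
        rcases hA.le_iff.1 (inf_le_right : W ⊓ A ≤ A) with h | h
        · exact Or.inr ⟨hWN, hWA, h⟩
        · refine Or.inl ?_
          rw [← hWA]
          exact (sup_eq_left.2 (inf_eq_right.1 h)).symm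
      · rintro (rfl | h)
        · exact ⟨le_rfl, sup_eq_left.2 hAN⟩
        · exact ⟨h.1, h.2.1⟩
    have hnot : N ∉ Finset.univ.filter fun W => W ≤ N ∧ W ⊔ A = N ∧ W ⊓ A = ⊥ := by
      simp [inf_eq_right.2 hAN, hA.1]
    replace hw : ∑ W ∈ insert N (Finset.univ.filter fun W => W ≤ N ∧ W ⊔ A = N ∧ W ⊓ A = ⊥),
        mu W = 0 := by
      rw [← hsplit]
      convert hw using 3
    rw [Finset.sum_insert hnot] at hw
    have hterm : ∀ W ∈ Finset.univ.filter (fun W => W ≤ N ∧ W ⊔ A = N ∧ W ⊓ A = ⊥),
        mu W = (-1 : ℤ) ^ Module.finrank F B * value (Fintype.card F) (subCharpoly B) := by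
      intro W hW
      obtain ⟨hW1, hW2, hW3⟩ := (Finset.mem_filter.1 hW).2
      obtain ⟨e⟩ := hiso W hW1 hW2 hW3
      have hlt : W < N := lt_of_le_of_ne hW1 fun h => hnot (h ▸ hW)
      rw [ih W hlt, subCharpoly, charpoly_congr (F := F) e, ← (e.restrictScalars F).finrank_eq]
      rfl
    rw [Finset.sum_congr rfl hterm, Finset.sum_const, nsmul_eq_mul, ← Fintype.card_subtype,
      ← Nat.card_eq_fintype_card, hcard, card_hom hA hfm hf hk hr B] at hw
    rw [hfr, hsp, show subCharpoly A = f from hcp, value_mul_irreducible hf hfm (subCharpoly_ne_zero B),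
      hr, pow_add]
    have hd : (-1 : ℤ) ^ f.natDegree = (-1) ^ (f.natDegree - 1) * (-1) := by
      rw [← pow_succ, Nat.sub_add_cancel hf.natDegree_pos]
    have hs : (-1 : ℤ) ^ (f.natDegree - 1) * (-1) ^ (f.natDegree - 1) = 1 := by
      rw [← pow_add, Even.neg_one_pow ⟨_, rfl⟩]
    rw [hd]
    push_cast at hw
    linear_combination hw + ((Fintype.card F : ℤ) ^
      (f.natDegree * (normalizedFactors (subCharpoly B)).count f) *
      ((-1) ^ Module.finrank F B * value (Fintype.card F) (subCharpoly B))) * hs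

end CfsgLib.SteinbergSemisimple
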