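import Cfsg.Agent.Lib.SteinbergSemisimple.Perm
import Cfsg.Agent.Lib.SteinbergSemisimple.Module
import Cfsg.Prelude.Def_LinearParabolics
import Mathlib.LinearAlgebra.Semisimple
import Mathlib.FieldTheory.Separable
import Mathlib.LinearAlgebra.Matrix.GeneralLinearGroup.Defs
import Mathlib.GroupTheory.GroupAction.Quotient

/-!
Fixed cosets of parabolic subgroups as invariant flags, and the value of the Steinberg character
at semisimple elements.
-/

set_option autoImplicit false
set_option linter.unusedSectionVars false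

namespace CfsgLib.SteinbergSemisimple

open Polynomial Module Matrix
open scoped Classical MatrixGroups

variable {F : Type*} [Field F] {n : ℕ}

/-- Flags with prescribed dimensions. -/
def Flags (F : Type*) [Field F] (n : ℕ) (E : Finset ℕ) : Type _ :=
  {W : E → Submodule F (Fin n → F) //
    (∀ e e' : E, e.1 ≤ e'.1 → W e ≤ W e') ∧ ∀ e : E, finrank F (W e) = e.1}

/-- The standard subspaces. -/
def stdSpace (F : Type*) [Field F] (n e : ℕ) : Submodule F (Fin n → F) where
  carrier := {v | ∀ i : Fin n, e ≤ i.val → v i = 0}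
  add_mem' := fun {a b} ha hb i hi => by simp [ha i hi, hb i hi]
  zero_mem' := fun _ _ => rfl
  smul_mem' := fun c a ha i hi => by simp [ha i hi]

theorem single_mem_stdSpace {e : ℕ} (i : Fin n) (hi : i.val < e) (c : F) :
    (Pi.single i c : Fin n → F) ∈ stdSpace F n e := fun k hk => by
  rw [Pi.single_eq_of_ne]
  intro h
  subst h
  omega

theorem mulVec_of_mem {e : ℕ} (he : e ≤ n) (A : Matrix (Fin n) (Fin n) F) {v : Fin n → F}
    (hv : v ∈ stdSpace F n e) :
    A *ᵥ v = ∑ i : Fin e, v (Fin.castLE he i) • fun r => A r (Fin.castLE he i) := by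
  funext r
  rw [Finset.sum_apply]
  simp only [Pi.smul_apply, smul_eq_mul, Matrix.mulVec, dotProduct]
  refine Eq.symm (Fintype.sum_of_injective (Fin.castLE he) (Fin.castLE_injective he)
    (fun i => v (Fin.castLE he i) * A r (Fin.castLE he i)) (fun i => A r i * v i) (fun i hi => ?_)
    (fun i => mul_comm _ _))
  have : e ≤ i.val := not_lt.1 fun h => hi ⟨⟨i.val, h⟩, Fin.ext rfl⟩
  rw [hv i this, mul_zero]

/-- The action of an invertible matrix. -/
def lin (g : GL (Fin n) F) : (Fin n → F) →ₗ[F] (Fin n → F) :=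
  (g : Matrix (Fin n) (Fin n) F).mulVecLin

theorem lin_apply (g : GL (Fin n) F) (v : Fin n → F) :
    lin g v = (g : Matrix (Fin n) (Fin n) F) *ᵥ v := rfl

theorem lin_mul (g h : GL (Fin n) F) : lin (g * h) = (lin g).comp (lin h) := by
  rw [lin, lin, lin, Units.val_mul, Matrix.mulVecLin_mul]

theorem lin_one : lin (1 : GL (Fin n) F) = LinearMap.id := by
  rw [lin, Units.val_one, Matrix.mulVecLin_one]

theorem lin_injective (g : GL (Fin n) F) : Function.Injective (lin g) := fun v w h => by
  have h2 := congrArg (lin g⁻¹) h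
  rwa [← LinearMap.comp_apply, ← LinearMap.comp_apply, ← lin_mul, inv_mul_cancel, lin_one] at h2

theorem finrank_map_lin (g : GL (Fin n) F) (W : Submodule F (Fin n → F)) :
    finrank F (W.map (lin g)) = finrank F W :=
  (Submodule.equivMapOfInjective (lin g) (lin_injective g) W).finrank_eq.symm

theorem map_lin_eq {g : GL (Fin n) F} {W : Submodule F (Fin n → F)} (h : W.map (lin g) ≤ W) :
    W.map (lin g) = W :=
  Submodule.eq_of_le_of_finrank_eq h (finrank_map_lin g W)

theorem stdSpace_eq {e : ℕ} (he : e ≤ n) :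
    stdSpace F n e = Submodule.span F
      (Set.range fun i : Fin e => (Pi.single (Fin.castLE he i) 1 : Fin n → F)) := by
  refine le_antisymm (fun v hv => ?_) (Submodule.span_le.2 ?_)
  · have h := mulVec_of_mem he (1 : Matrix (Fin n) (Fin n) F) hv
    rw [Matrix.one_mulVec] at h
    rw [h]
    refine Submodule.sum_mem _ fun i _ => Submodule.smul_mem _ _ (Submodule.subset_span ⟨i, ?_⟩)
    funext r
    simp [Matrix.one_apply, Pi.single_apply]
  · rintro _ ⟨i, rfl⟩
    exact single_mem_stdSpace (Fin.castLE he i) i.2 1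

theorem finrank_stdSpace {e : ℕ} (he : e ≤ n) : finrank F (stdSpace F n e) = e := by
  rw [stdSpace_eq he, finrank_span_eq_card, Fintype.card_fin]
  have h := (Pi.basisFun F (Fin n)).linearIndependent.comp (Fin.castLE he) (Fin.castLE_injective he)
  simpa [Function.comp_def] using h

variable {E : Finset ℕ}

theorem le_of_mem (hE : E ⊆ Finset.Ioo 0 n) (e : E) : e.1 ≤ n :=
  (Finset.mem_Ioo.1 (hE e.2)).2.le

/-- The composition attached to a set of dimensions. -/
noncomputable def comp (n : ℕ) (E : Finset ℕ) (i : Fin n) : ℕ := 1 + i.val - (kperm n E i).val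

theorem mem_parabolic_iff (hE : E ⊆ Finset.Ioo 0 n) (g : GL (Fin n) F) :
    g ∈ Cfsg.parabolicGL n F (comp n E) ↔
      ∀ e : E, (stdSpace F n e.1).map (lin g) = stdSpace F n e.1 := by
  change (g : Matrix (Fin n) (Fin n) F).BlockTriangular (Cfsg.compLabel (comp n E)) ↔ _
  constructor
  · intro h e
    refine map_lin_eq (Submodule.map_le_iff_le_comap.2 fun v hv i hi => ?_)
    show ((g : Matrix (Fin n) (Fin n) F) *ᵥ v) i = 0
    rw [Matrix.mulVec, dotProduct]
    refine Finset.sum_eq_zero fun j _ => ?_
    rcases Nat.lt_or_ge j.val e.1 with hj | hj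
    · rw [h ((label_lt hE i j).2 ⟨e.1, e.2, hj, hi⟩), zero_mul]
    · rw [hv j hj, mul_zero]
  · intro h i j hij
    obtain ⟨e, he, hje, hei⟩ := (label_lt hE i j).1 hij
    have hm : lin g (Pi.single j 1) ∈ stdSpace F n e := by
      rw [← h ⟨e, he⟩]
      exact Submodule.mem_map_of_mem (single_mem_stdSpace j hje 1)
    have := hm i hei
    rw [lin_apply, Matrix.mulVec_single_one] at this
    simpa using this

/-- The flag attached to an invertible matrix. -/
def flagOf (hE : E ⊆ Finset.Ioo 0 n) (g : GL (Fin n) F) : Flags F n E :=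
  ⟨fun e => (stdSpace F n e.1).map (lin g),
    fun e e' h => Submodule.map_mono fun v hv i hi => hv i (h.trans hi),
    fun e => by rw [finrank_map_lin, finrank_stdSpace (le_of_mem hE e)]⟩

theorem flagOf_eq_iff (hE : E ⊆ Finset.Ioo 0 n) (g g' : GL (Fin n) F) :
    flagOf hE g = flagOf hE g' ↔ g⁻¹ * g' ∈ Cfsg.parabolicGL n F (comp n E) := by
  rw [mem_parabolic_iff hE]
  constructor
  · intro h e
    have he : (stdSpace F n e.1).map (lin g) = (stdSpace F n e.1).map (lin g') :=
      congrFun (congrArg Subtype.val h) e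
    rw [lin_mul, Submodule.map_comp, ← he, ← Submodule.map_comp, ← lin_mul, inv_mul_cancel,
      lin_one, Submodule.map_id]
  · intro h
    refine Subtype.ext (funext fun e => ?_)
    show (stdSpace F n e.1).map (lin g) = (stdSpace F n e.1).map (lin g')
    conv_lhs => rw [← h e]
    rw [← Submodule.map_comp, ← lin_mul, mul_inv_cancel_left]

theorem exists_adapted (hE : E ⊆ Finset.Ioo 0 n) (W : Flags F n E) :
    ∀ m ≤ n, ∃ v : Fin m → Fin n → F, LinearIndependent F v ∧
      ∀ k : Fin m, ∀ e : E, k.val < e.1 → v k ∈ W.1 e := by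
  intro m
  induction m with
  | zero => exact fun _ => ⟨Fin.elim0, linearIndependent_empty_type, fun k => k.elim0⟩
  | succ m ih =>
    intro hm
    obtain ⟨v, hv, hvW⟩ := ih (by omega)
    obtain ⟨T, hT, hTW⟩ : ∃ T : Submodule F (Fin n → F), m < finrank F T ∧
        ∀ e : E, m < e.1 → T ≤ W.1 e := by
      by_cases hex : (E.filter (m < ·)).Nonempty
      · obtain ⟨he0, hlt⟩ := Finset.mem_filter.1 ((E.filter (m < ·)).min'_mem hex)
        exact ⟨W.1 ⟨_, he0⟩, by rw [W.2.2]; exact hlt,
          fun e he => W.2.1 _ _ ((E.filter (m < ·)).min'_le _ (Finset.mem_filter.2 ⟨e.2, he⟩))⟩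
      · exact ⟨⊤, by rw [finrank_top, Module.finrank_fin_fun]; omega,
          fun e he => absurd ⟨e.1, Finset.mem_filter.2 ⟨e.2, he⟩⟩ hex⟩
    obtain ⟨w, hwT, hw⟩ : ∃ w ∈ T, w ∉ Submodule.span F (Set.range v) := by
      by_contra hall
      push Not at hall
      have := Submodule.finrank_mono (show T ≤ Submodule.span F (Set.range v) from hall)
      rw [finrank_span_eq_card hv, Fintype.card_fin] at this
      omega
    refine ⟨Fin.snoc v w, linearIndependent_fin_snoc.2 ⟨hv, hw⟩, fun k e hk => ?_⟩
    induction k using Fin.lastCases with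
    | last => rw [Fin.snoc_last]; exact hTW e (by simpa using hk) hwT
    | cast k => rw [Fin.snoc_castSucc]; exact hvW k e (by simpa using hk)

theorem flagOf_surjective (hE : E ⊆ Finset.Ioo 0 n) :
    Function.Surjective (flagOf (F := F) hE) := fun W => by
  obtain ⟨v, hv, hvW⟩ := exists_adapted hE W n le_rfl
  have hu : IsUnit (Matrix.of fun r c => v c r : Matrix (Fin n) (Fin n) F) := by
    rw [← Matrix.linearIndependent_cols_iff_isUnit]
    exact hv
  refine ⟨hu.unit, Subtype.ext (funext fun e => ?_)⟩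
  show (stdSpace F n e.1).map (lin hu.unit) = W.1 e
  refine Submodule.eq_of_le_of_finrank_eq (Submodule.map_le_iff_le_comap.2 fun x hx => ?_)
    (by rw [finrank_map_lin, finrank_stdSpace (le_of_mem hE e), W.2.2])
  rw [Submodule.mem_comap, lin_apply, IsUnit.unit_spec, mulVec_of_mem (le_of_mem hE e) _ hx]
  exact Submodule.sum_mem _ fun i _ => Submodule.smul_mem _ _ (hvW (Fin.castLE _ i) e i.2)

/-- Flags fixed by `x`. -/
def InvFlags (x : GL (Fin n) F) (E : Finset ℕ) : Type _ :=
  {W : Flags F n E // ∀ e : E, W.1 e ∈ Module.End.invtSubmodule (lin x)}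

theorem card_fixed (hE : E ⊆ Finset.Ioo 0 n) (x : GL (Fin n) F) :
    Nat.card (MulAction.fixedBy (GL (Fin n) F ⧸ Cfsg.parabolicGL n F (comp n E)) x) =
      Nat.card (InvFlags x E) := by
  let Ψ : GL (Fin n) F ⧸ Cfsg.parabolicGL n F (comp n E) ≃ Flags F n E :=
    Equiv.ofBijective (Quotient.lift (flagOf hE) fun a b hab =>
        (flagOf_eq_iff hE a b).2 (QuotientGroup.leftRel_apply.1 hab))
      ⟨fun p q => Quotient.inductionOn₂ p q fun a b h =>
        Quotient.sound (QuotientGroup.leftRel_apply.2 ((flagOf_eq_iff hE a b).1 h)),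
       fun W => (flagOf_surjective hE W).elim fun g hg => ⟨QuotientGroup.mk g, hg⟩⟩
  refine Nat.card_congr (Ψ.subtypeEquiv fun p => ?_)
  induction p using QuotientGroup.induction_on with
  | H g =>
    rw [MulAction.mem_fixedBy, MulAction.Quotient.smul_mk, ← Ψ.injective.eq_iff]
    change flagOf hE (x • g) = flagOf hE g ↔
      ∀ e : E, (flagOf hE g).1 e ∈ Module.End.invtSubmodule (lin x)
    constructor
    · intro h e
      rw [Module.End.mem_invtSubmodule_iff_map_le]
      have h' : (stdSpace F n e.1).map (lin (x * g)) = (stdSpace F n e.1).map (lin g) :=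
        congrFun (congrArg Subtype.val h) e
      rw [lin_mul, Submodule.map_comp] at h'
      exact h'.le
    · intro h
      refine Subtype.ext (funext fun e => ?_)
      show (stdSpace F n e.1).map (lin (x * g)) = (stdSpace F n e.1).map (lin g)
      rw [lin_mul, Submodule.map_comp]
      exact map_lin_eq ((Module.End.mem_invtSubmodule_iff_map_le _).1 (h e))

section chains

variable [Fintype F] (x : GL (Fin n) F)

/-- The module attached to `x`. -/
abbrev Mod := AEval' (lin x)

noncomputable instance : Fintype (Mod x) := Fintype.ofEquiv _ (AEval'.of (lin x)).toEquiv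

noncomputable instance : Fintype (Submodule F[X] (Mod x)) := Fintype.ofFinite _

/-- Invariant subspaces as submodules. -/
noncomputable def toSub : Module.End.invtSubmodule (lin x) ≃o Submodule F[X] (Mod x) :=
  AEval.mapSubmodule F (Fin n → F) (lin x)

theorem finrank_toSub (p : Submodule F (Fin n → F)) (hp : p ∈ Module.End.invtSubmodule (lin x)) :
    finrank F (toSub x ⟨p, hp⟩) = finrank F p :=
  (AEval.equiv_mapSubmodule (lin x) p hp).finrank_eq.symm

/-- The dimension over the ground field. -/
noncomputable def rk (N : Submodule F[X] (Mod x)) : ℕ := finrank F N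

theorem finrank_sub_lt {N N' : Submodule F[X] (Mod x)} (h : N < N') :
    finrank F N < finrank F N' :=
  Submodule.finrank_lt_finrank_of_lt (s := N.restrictScalars F) (t := N'.restrictScalars F) h

theorem finrank_sub_le (N : Submodule F[X] (Mod x)) : finrank F N ≤ n :=
  (Submodule.finrank_le (N.restrictScalars F)).trans_eq
    (((AEval'.of (lin x)).finrank_eq).symm.trans (Module.finrank_fin_fun F))

theorem finrank_sub_top : finrank F (⊤ : Submodule F[X] (Mod x)) = n :=
  ((Submodule.topEquiv (R := F[X]) (M := Mod x)).restrictScalars F).finrank_eq.trans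
    (((AEval'.of (lin x)).finrank_eq).symm.trans (Module.finrank_fin_fun F))

theorem card_chains (hE : E ⊆ Finset.Ioo 0 n) :
    Nat.card (InvFlags x E) =
      ((chainsBelow (⊤ : Submodule F[X] (Mod x))).filter
        fun C => C.image (rk x) = E).card := by
  rw [← Fintype.card_coe, ← Nat.card_eq_fintype_card]
  have hrk : ∀ (W : InvFlags x E) (e : E), finrank F (toSub x ⟨W.1.1 e, W.2 e⟩) = e.1 := fun W e => by
    rw [finrank_toSub, W.1.2.2]
  let C : InvFlags x E → Finset (Submodule F[X] (Mod x)) := fun W =>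
    Finset.univ.image fun e : E => toSub x ⟨W.1.1 e, W.2 e⟩
  have hC : ∀ W, C W ∈ (chainsBelow (⊤ : Submodule F[X] (Mod x))).filter
      fun C => C.image (rk x) = E := fun W => by
    refine Finset.mem_filter.2 ⟨mem_chainsBelow.2 ⟨fun N hN => ?_, ?_⟩, ?_⟩
    · obtain ⟨e, -, rfl⟩ := Finset.mem_image.1 hN
      obtain ⟨h1, h2⟩ := Finset.mem_Ioo.1 (hE e.2)
      refine ⟨bot_lt_iff_ne_bot.2 fun h0 => ?_, lt_top_iff_ne_top.2 fun h0 => ?_⟩
      · have := hrk W e
        rw [h0, Module.finrank_zero_of_subsingleton] at this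
        omega
      · have := hrk W e
        rw [h0, finrank_sub_top] at this
        omega
    · intro a ha b hb _
      obtain ⟨e, -, rfl⟩ := Finset.mem_image.1 ha
      obtain ⟨e', -, rfl⟩ := Finset.mem_image.1 hb
      rcases le_total e.1 e'.1 with h | h
      · exact Or.inl ((toSub x).monotone (W.1.2.1 _ _ h))
      · exact Or.inr ((toSub x).monotone (W.1.2.1 _ _ h))
    · ext d
      simp only [C, Finset.mem_image, Finset.mem_univ, true_and, exists_exists_eq_and, rk, hrk]
      exact ⟨fun ⟨e, he⟩ => he ▸ e.2, fun hd => ⟨⟨d, hd⟩, rfl⟩⟩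
  refine Nat.card_congr (Equiv.ofBijective (fun W => (⟨C W, hC W⟩ : {C // C ∈ _})) ⟨?_, ?_⟩)
  · intro W W' h
    have h' : C W = C W' := congrArg Subtype.val h
    refine Subtype.ext (Subtype.ext (funext fun e => ?_))
    have hmem : toSub x ⟨W.1.1 e, W.2 e⟩ ∈ C W' :=
      h' ▸ Finset.mem_image.2 ⟨e, Finset.mem_univ _, rfl⟩
    obtain ⟨e', -, he'⟩ := Finset.mem_image.1 hmem
    have : e' = e := Subtype.ext (by rw [← hrk W' e', he', hrk W e])
    subst this
    exact (congrArg Subtype.val ((toSub x).injective he')).symm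
  · rintro ⟨D, hD⟩
    obtain ⟨hD1, hD2⟩ := Finset.mem_filter.1 hD
    obtain ⟨hb, hch⟩ := mem_chainsBelow.1 hD1
    have hex : ∀ e : E, ∃ N ∈ D, finrank F N = e.1 := fun e => by
      have h : e.1 ∈ D.image (rk x) := by rw [hD2]; exact e.2
      exact Finset.mem_image.1 h
    choose N hN hNr using hex
    have huniq : ∀ a ∈ D, ∀ b ∈ D, finrank F a = finrank F b → a = b := fun a ha b hb' h => by
      by_contra hne
      rcases hch ha hb' hne with hle | hle
      · exact absurd h (finrank_sub_lt x (lt_of_le_of_ne hle hne)).ne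
      · exact absurd h (finrank_sub_lt x (lt_of_le_of_ne hle (Ne.symm hne))).ne'
    have hmono : ∀ e e' : E, e.1 ≤ e'.1 → N e ≤ N e' := fun e e' h => by
      rcases eq_or_ne (N e) (N e') with h' | h'
      · exact h'.le
      rcases hch (hN e) (hN e') h' with hle | hle
      · exact hle
      · have := finrank_sub_lt x (lt_of_le_of_ne hle h'.symm)
        rw [hNr, hNr] at this
        omega
    refine ⟨⟨⟨fun e => ((toSub x).symm (N e)).1, fun e e' h => (toSub x).symm.monotone (hmono e e' h),
      fun e => ?_⟩, fun e => ((toSub x).symm (N e)).2⟩, Subtype.ext ?_⟩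
    · rw [← finrank_toSub x _ ((toSub x).symm (N e)).2, Subtype.coe_eta, OrderIso.apply_symm_apply]
      exact hNr e
    · ext a
      simp only [C, Finset.mem_image, Finset.mem_univ, true_and, Subtype.coe_eta,
        OrderIso.apply_symm_apply]
      constructor
      · rintro ⟨e, rfl⟩; exact hN e
      · intro ha
        have he : finrank F a ∈ E := hD2 ▸ Finset.mem_image_of_mem _ ha
        exact ⟨⟨_, he⟩, huniq _ (hN _) _ ha (hNr _)⟩

theorem steinberg_eq_mu :
    Cfsg.unipotentCharacterGL n F (fun _ => 1) x =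
      ((((-1 : ℤ) ^ n * mu (⊤ : Submodule F[X] (Mod x))) : ℤ) : ℂ) := by
  have h : Cfsg.unipotentCharacterGL n F (fun _ => 1) x =
      ∑ E ∈ (Finset.Ioo 0 n).powerset, (-1 : ℂ) ^ (n - 1 - E.card) *
        Cfsg.fixedPointCharacter (Cfsg.parabolicGL n F (comp n E)) x := by
    rw [Cfsg.unipotentCharacterGL]
    exact sum_valid fun κ => Cfsg.fixedPointCharacter
      (Cfsg.parabolicGL n F fun i : Fin n => 1 + i.val - (κ i).val) x
  rw [h]
  have hsum : chainSum (⊤ : Submodule F[X] (Mod x)) =
      ∑ E ∈ (Finset.Ioo 0 n).powerset, (-1 : ℤ) ^ E.card * (Nat.card (InvFlags x E) : ℤ) := by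
    rw [chainSum, ← Finset.sum_fiberwise_of_maps_to
      (g := fun C : Finset (Submodule F[X] (Mod x)) => C.image (rk x))
      (t := (Finset.Ioo 0 n).powerset)]
    · refine Finset.sum_congr rfl fun E hE => ?_
      rw [Finset.sum_congr rfl (g := fun _ => (-1 : ℤ) ^ E.card), Finset.sum_const, nsmul_eq_mul,
        card_chains x (Finset.mem_powerset.1 hE), mul_comm]
      intro C hC
      obtain ⟨hC1, hC2⟩ := Finset.mem_filter.1 hC
      rw [← hC2, Finset.card_image_of_injOn]
      intro a ha b hb hab
      by_contra hne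
      obtain ⟨-, hch⟩ := mem_chainsBelow.1 hC1
      rcases hch ha hb hne with hle | hle
      · exact absurd hab (finrank_sub_lt x (lt_of_le_of_ne hle hne)).ne
      · exact absurd hab (finrank_sub_lt x (lt_of_le_of_ne hle (Ne.symm hne))).ne'
    · intro C hC
      refine Finset.mem_powerset.2 fun d hd => ?_
      obtain ⟨N, hN, rfl⟩ := Finset.mem_image.1 hd
      obtain ⟨h1, h2⟩ := (mem_chainsBelow.1 hC).1 N hN
      refine Finset.mem_Ioo.2 ⟨?_, ?_⟩
      · have := finrank_sub_lt x h1
        exact lt_of_le_of_lt (Nat.zero_le _) this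
      · exact (finrank_sub_lt x h2).trans_eq (finrank_sub_top x)
  have hcast : ∀ E ∈ (Finset.Ioo 0 n).powerset, (-1 : ℂ) ^ (n - 1 - E.card) *
      Cfsg.fixedPointCharacter (Cfsg.parabolicGL n F (comp n E)) x =
      (((-1 : ℤ) ^ (n - 1 - E.card) * (Nat.card (InvFlags x E) : ℤ) : ℤ) : ℂ) := fun E hE => by
    rw [Cfsg.fixedPointCharacter, card_fixed (Finset.mem_powerset.1 hE) x]
    push_cast
    ring
  rw [Finset.sum_congr rfl hcast, ← Int.cast_sum]
  congr 1
  rcases Nat.eq_zero_or_pos n with hn | hn
  · have htop : (⊤ : Submodule F[X] (Mod x)) = ⊥ := by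
      refine (bot_unique fun v _ => ?_)
      have : v = 0 := (AEval'.of (lin x)).symm.injective (funext fun i => absurd i.2 (by omega))
      simp [this]
    subst hn
    have hb : chainSum (⊤ : Submodule F[X] (Mod x)) = 1 := by
      rw [htop, chainSum_eq]
      refine add_eq_left.2 (Finset.sum_eq_zero fun a ha => ?_)
      obtain ⟨-, h1, h2⟩ := Finset.mem_filter.1 ha
      exact absurd h2 (not_lt_bot)
    rw [pow_zero, one_mul, htop, mu_bot, ← hb, hsum]
    refine Finset.sum_congr rfl fun E hE => ?_
    have : E = ∅ := Finset.subset_empty.1 (by simpa using Finset.mem_powerset.1 hE)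
    simp [this]
  · have hne : (⊤ : Submodule F[X] (Mod x)) ≠ ⊥ := fun h => by
      have := finrank_sub_top x
      rw [h, Module.finrank_zero_of_subsingleton] at this
      omega
    rw [mu_of_ne hne, hsum, ← Finset.sum_neg_distrib, Finset.mul_sum]
    refine Finset.sum_congr rfl fun E hE => ?_
    have hc : E.card ≤ n - 1 := by
      simpa using Finset.card_le_card (Finset.mem_powerset.1 hE)
    have : (-1 : ℤ) ^ (n - 1 - E.card) = (-1) ^ n * -(-1) ^ E.card := by
      rw [mul_neg, ← pow_add, show n + E.card = (n - 1 - E.card) + 1 + 2 * E.card by omega, pow_add,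
        pow_succ, pow_mul]
      norm_num
    rw [this]
    ring

/-- The value of the Steinberg character at an element of order prime to the characteristic. -/
theorem steinberg_value (p : ℕ) [Fact p.Prime] [CharP F p] (hx : (orderOf x).Coprime p) :
    Cfsg.unipotentCharacterGL n F (fun _ => 1) x =
      ((value (Fintype.card F) (x : Matrix (Fin n) (Fin n) F).charpoly : ℤ) : ℂ) := by
  have hord : 0 < orderOf x := orderOf_pos x
  have hk : (orderOf x : F) ≠ 0 := fun h => by
    rw [CharP.cast_eq_zero_iff F p] at h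
    exact (Fact.out : p.Prime).ne_one (Nat.eq_one_of_dvd_coprimes hx h dvd_rfl)
  have hpow : ∀ k : ℕ, lin (x ^ k) = (lin x) ^ k := by
    intro k
    induction k with
    | zero => rw [pow_zero, pow_zero, lin_one]; rfl
    | succ k ih => rw [pow_succ, pow_succ, lin_mul, ih]; rfl
  have hann : aeval (lin x) (X ^ orderOf x - C (1 : F)) = 0 := by
    rw [map_sub, map_pow, aeval_X, aeval_C, map_one, ← hpow, pow_orderOf_eq_one, lin_one]
    exact sub_self _
  have hss : IsSemisimpleModule F[X] (Mod x) :=
    Module.End.isSemisimple_of_squarefree_aeval_eq_zero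
      (separable_X_pow_sub_C (1 : F) hk one_ne_zero).squarefree hann
  have hcp : subCharpoly (⊤ : Submodule F[X] (Mod x)) = (x : Matrix (Fin n) (Fin n) F).charpoly := by
    rw [subCharpoly, ← charpoly_congr (F := F) (Submodule.topEquiv (R := F[X]) (M := Mod x)),
      ← Matrix.charpoly_mulVecLin, ← LinearEquiv.charpoly_conj (AEval'.of (lin x)) ]
    congr 1
    refine LinearMap.ext fun v => ?_
    show (X : F[X]) • v = AEval'.of (lin x) ((lin x) ((AEval'.of (lin x)).symm v))
    rw [← AEval'.X_smul_of, LinearEquiv.apply_symm_apply]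
  rw [steinberg_eq_mu, mu_semisimple, finrank_sub_top, hcp, ← mul_assoc, ← pow_add,
    Even.neg_one_pow ⟨n, rfl⟩, one_mul]

end chains

end CfsgLib.SteinbergSemisimple
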