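import Mathlib.Order.Preorder.Chain
import Mathlib.Data.Finset.Max
import Mathlib.Algebra.BigOperators.Group.Finset.Basic
import Mathlib.Data.Fintype.Powerset
import Mathlib.Tactic

/-!
The Möbius function of a finite ordered set as an alternating sum over chains, and Weisner's
identity.
-/

set_option autoImplicit false
set_option linter.unusedSectionVars false

namespace CfsgLib.SteinbergSemisimple

open Finset
open scoped Classical

section chains

variable {L : Type*} [PartialOrder L] [OrderBot L] [Fintype L]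

/-- The chains strictly between the bottom and `b`. -/
noncomputable def chainsBelow (b : L) : Finset (Finset L) :=
  univ.filter fun C => (∀ x ∈ C, ⊥ < x ∧ x < b) ∧ IsChain (· ≤ ·) (C : Set L)

theorem mem_chainsBelow {b : L} {C : Finset L} :
    C ∈ chainsBelow b ↔ (∀ x ∈ C, ⊥ < x ∧ x < b) ∧ IsChain (· ≤ ·) (C : Set L) := by
  simp [chainsBelow]

/-- The alternating number of chains strictly between the bottom and `b`. -/
noncomputable def chainSum (b : L) : ℤ := ∑ C ∈ chainsBelow b, (-1 : ℤ) ^ C.card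

/-- The Möbius function of the interval from the bottom to `b`. -/
noncomputable def mu (b : L) : ℤ := if b = ⊥ then 1 else -chainSum b

theorem mu_bot : mu (⊥ : L) = 1 := if_pos rfl

theorem mu_of_ne {b : L} (hb : b ≠ ⊥) : mu b = -chainSum b := if_neg hb

theorem chainSum_eq (b : L) :
    chainSum b = 1 + ∑ a ∈ univ.filter (fun a => ⊥ < a ∧ a < b), mu a := by
  have hempty : (∅ : Finset L) ∈ chainsBelow b := by simp [mem_chainsBelow]
  rw [chainSum, ← Finset.add_sum_erase _ _ hempty, card_empty, pow_zero, add_right_inj]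
  have h1 : ∀ a ∈ univ.filter (fun a => ⊥ < a ∧ a < b),
      mu a = ∑ C ∈ chainsBelow a, -(-1 : ℤ) ^ C.card := fun a ha => by
    rw [mu_of_ne (mem_filter.1 ha).2.1.ne', chainSum, sum_neg_distrib]
  rw [sum_congr rfl h1, sum_sigma' (univ.filter fun a => ⊥ < a ∧ a < b) (fun a => chainsBelow a)
    (fun _ C => -(-1 : ℤ) ^ C.card)]
  symm
  refine sum_bij (fun p _ => insert p.1 p.2) ?_ ?_ ?_ ?_
  · rintro ⟨a, C⟩ hp
    simp only [mem_sigma, mem_filter, mem_univ, true_and, mem_chainsBelow] at hp
    obtain ⟨⟨ha0, hab⟩, hC, hch⟩ := hp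
    refine mem_erase.2 ⟨(insert_nonempty a C).ne_empty, mem_chainsBelow.2 ⟨?_, ?_⟩⟩
    · intro x hx
      rcases mem_insert.1 hx with rfl | hx
      · exact ⟨ha0, hab⟩
      · exact ⟨(hC x hx).1, (hC x hx).2.trans hab⟩
    · rw [coe_insert]
      exact hch.insert fun x hx _ => Or.inr (hC x hx).2.le
  · rintro ⟨a, C⟩ hp ⟨a', C'⟩ hp' h
    simp only [mem_sigma, mem_filter, mem_univ, true_and, mem_chainsBelow] at hp hp'
    have e1 : ∀ x ∈ insert a C, x ≤ a := fun x hx => by
      rcases mem_insert.1 hx with rfl | hx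
      · exact le_rfl
      · exact (hp.2.1 x hx).2.le
    have e2 : ∀ x ∈ insert a' C', x ≤ a' := fun x hx => by
      rcases mem_insert.1 hx with rfl | hx
      · exact le_rfl
      · exact (hp'.2.1 x hx).2.le
    simp only at h
    have ha : a = a' :=
      le_antisymm (e2 a (h ▸ mem_insert_self a C)) (e1 a' (h.symm ▸ mem_insert_self a' C'))
    subst ha
    have hn : a ∉ C := fun hx => lt_irrefl a (hp.2.1 a hx).2
    have hn' : a ∉ C' := fun hx => lt_irrefl a (hp'.2.1 a hx).2
    rw [← erase_insert hn, h, erase_insert hn']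
  · intro C hC
    obtain ⟨hne, hC⟩ := mem_erase.1 hC
    obtain ⟨hb, hch⟩ := mem_chainsBelow.1 hC
    obtain ⟨a, haC, hmax⟩ := C.exists_maximal (nonempty_iff_ne_empty.2 hne)
    refine ⟨⟨a, C.erase a⟩, ?_, insert_erase haC⟩
    simp only [mem_sigma, mem_filter, mem_univ, true_and, mem_chainsBelow]
    refine ⟨hb a haC, fun x hx => ⟨(hb x (mem_erase.1 hx).2).1, ?_⟩,
      hch.mono (coe_subset.2 (erase_subset a C))⟩
    obtain ⟨hxa, hxC⟩ := mem_erase.1 hx
    rcases hch.total hxC haC with hle | hle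
    · exact lt_of_le_of_ne hle hxa
    · exact absurd (le_antisymm (hmax hxC hle) hle) hxa
  · rintro ⟨a, C⟩ hp
    simp only [mem_sigma, mem_filter, mem_univ, true_and, mem_chainsBelow] at hp
    rw [card_insert_of_notMem fun hx => lt_irrefl a (hp.2.1 a hx).2, pow_succ]
    ring

/-- The defining recursion of the Möbius function. -/
theorem sum_mu {b : L} (hb : b ≠ ⊥) : ∑ a ∈ univ.filter (· ≤ b), mu a = 0 := by
  have h : univ.filter (· ≤ b) = insert ⊥ (insert b (univ.filter fun a => ⊥ < a ∧ a < b)) := by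
    ext a
    simp only [mem_filter, mem_univ, true_and, mem_insert, bot_lt_iff_ne_bot]
    constructor
    · intro ha
      rcases eq_or_ne a ⊥ with h0 | h0
      · exact Or.inl h0
      rcases ha.eq_or_lt with h1 | h1
      · exact Or.inr (Or.inl h1)
      · exact Or.inr (Or.inr ⟨h0, h1⟩)
    · rintro (rfl | rfl | h)
      exacts [bot_le, le_rfl, h.2.le]
  rw [h, sum_insert (by simp [hb.symm]), sum_insert (by simp), mu_bot, mu_of_ne hb, chainSum_eq]
  ring

end chains

variable {L : Type*} [SemilatticeSup L] [OrderBot L] [Fintype L]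

/-- Weisner's identity. -/
theorem weisner {A : L} (hA : A ≠ ⊥) :
    ∀ b : L, A ≤ b → ∑ W ∈ univ.filter (fun W => W ≤ b ∧ W ⊔ A = b), mu W = 0 := by
  intro b
  induction b using WellFoundedLT.induction with
  | _ b ih =>
    intro hAb
    have hb : b ≠ ⊥ := fun h => hA (le_bot_iff.1 (h ▸ hAb))
    have h := sum_mu hb
    rw [← sum_fiberwise_of_maps_to (t := univ.filter fun c => A ≤ c ∧ c ≤ b) (g := fun W => W ⊔ A)
      (fun W hW => mem_filter.2 ⟨mem_univ _, le_sup_right, sup_le (mem_filter.1 hW).2 hAb⟩)] at h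
    have hfib : ∀ c ∈ univ.filter (fun c => A ≤ c ∧ c ≤ b),
        (univ.filter (· ≤ b)).filter (fun W => W ⊔ A = c) =
          univ.filter (fun W => W ≤ c ∧ W ⊔ A = c) := by
      intro c hc
      ext W
      simp only [mem_filter, mem_univ, true_and] at hc ⊢
      exact ⟨fun hW => ⟨hW.2 ▸ le_sup_left, hW.2⟩, fun hW => ⟨hW.1.trans hc.2, hW.2⟩⟩
    rw [sum_congr rfl fun c hc => by rw [hfib c hc]] at h
    rwa [sum_eq_single_of_mem b (by simp [hAb])] at h
    intro c hc hne
    obtain ⟨hc1, hc2⟩ := (mem_filter.1 hc).2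
    exact ih c (lt_of_le_of_ne hc2 hne) hc1

end CfsgLib.SteinbergSemisimple
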