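import Cfsg.Prelude.Def_LinearParabolics
import Mathlib.Tactic

/-!
The permutations occurring in the alternating sum for the Steinberg character correspond to
subsets of the possible dimensions of a flag.
-/

set_option autoImplicit false
set_option linter.unusedSectionVars false

namespace CfsgLib.SteinbergSemisimple

open Finset

variable (n : ℕ) (E : Finset ℕ)

/-- The break points. -/
def pts : Finset ℕ := insert 0 (insert n E)

/-- The last break point up to `i`. -/
def lastPt (i : ℕ) : ℕ :=
  ((pts n E).filter (· ≤ i)).max' ⟨0, by simp [pts]⟩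

variable {n E}

theorem lastPt_mem (i : ℕ) : lastPt n E i ∈ pts n E :=
  (mem_filter.1 (max'_mem ((pts n E).filter (· ≤ i)) ⟨0, by simp [pts]⟩)).1

theorem lastPt_le (i : ℕ) : lastPt n E i ≤ i :=
  (mem_filter.1 (max'_mem ((pts n E).filter (· ≤ i)) ⟨0, by simp [pts]⟩)).2

theorem le_lastPt {x i : ℕ} (hx : x ∈ pts n E) (hi : x ≤ i) : x ≤ lastPt n E i :=
  le_max' _ _ (mem_filter.2 ⟨hx, hi⟩)

theorem lastPt_eq {x i : ℕ} (hx : x ∈ pts n E) (hi : x ≤ i)
    (h : ∀ y ∈ pts n E, y ≤ i → y ≤ x) : lastPt n E i = x :=
  le_antisymm (h _ (lastPt_mem i) (lastPt_le i)) (le_lastPt hx hi)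

theorem lastPt_mono {i j : ℕ} (h : i ≤ j) : lastPt n E i ≤ lastPt n E j :=
  le_lastPt (lastPt_mem i) ((lastPt_le i).trans h)

theorem lastPt_self {i : ℕ} (h : i ∈ pts n E) : lastPt n E i = i :=
  le_antisymm (lastPt_le i) (le_lastPt h le_rfl)

theorem lastPt_succ {i : ℕ} (h : i + 1 ∉ pts n E) : lastPt n E (i + 1) = lastPt n E i :=
  lastPt_eq (lastPt_mem i) ((lastPt_le i).trans (Nat.le_succ i)) fun y hy hyi => by
    rcases Nat.lt_or_ge y (i + 1) with hlt | hge
    · exact le_lastPt hy (by omega)
    · exact absurd (show i + 1 ∈ pts n E by rwa [show i + 1 = y by omega]) h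

variable (n E)

/-- The permutation as a function. -/
def kfun (i : Fin n) : Fin n :=
  ⟨if i.val + 1 ∈ pts n E then lastPt n E i else i.val + 1, by
    split_ifs with h
    · exact lt_of_le_of_lt (lastPt_le _) i.2
    · have : i.val + 1 ≠ n := fun e => h (by simp [pts, e])
      have := i.2
      omega⟩

theorem kfun_injective : Function.Injective (kfun n E) := by
  intro i k h
  have h' := congrArg Fin.val h
  simp only [kfun] at h'
  refine Fin.ext ?_
  split_ifs at h' with hi hk hk
  · by_contra hne
    rcases Nat.lt_or_gt_of_ne hne with hlt | hlt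
    · have := le_lastPt hi (i := k) (by omega)
      have := lastPt_le (n := n) (E := E) i
      omega
    · have := le_lastPt hk (i := i) (by omega)
      have := lastPt_le (n := n) (E := E) k
      omega
  · exact absurd (h' ▸ lastPt_mem i.val) hk
  · exact absurd (h'.symm ▸ lastPt_mem k.val) hi
  · omega

/-- The permutation attached to a set of dimensions. -/
noncomputable def kperm : Equiv.Perm (Fin n) :=
  Equiv.ofBijective (kfun n E) (Finite.injective_iff_bijective.1 (kfun_injective n E))

variable {n E}

theorem kperm_val (i : Fin n) :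
    (kperm n E i : ℕ) = if i.val + 1 ∈ pts n E then lastPt n E i else i.val + 1 := rfl

theorem kperm_valid (i : Fin n) : (kperm n E i).val ≤ 1 + i.val := by
  rw [kperm_val]
  split_ifs
  · exact (lastPt_le _).trans (by omega)
  · omega

theorem part_eq (i : Fin n) :
    1 + i.val - (kperm n E i).val = lastPt n E (i.val + 1) - lastPt n E i := by
  rw [kperm_val]
  split_ifs with h
  · rw [lastPt_self h, Nat.add_comm]
  · rw [lastPt_succ h]
    omega

theorem partialSum (j : Fin n) :
    ∑ k ∈ univ.filter (fun k : Fin n => k ≤ j), (1 + k.val - (kperm n E k).val) =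
      lastPt n E (j.val + 1) := by
  simp only [part_eq]
  rw [sum_filter]
  simp only [Fin.le_def]
  rw [Fin.sum_univ_eq_sum_range
    (fun k => if k ≤ j.val then lastPt n E (k + 1) - lastPt n E k else 0), ← sum_filter]
  have : (range n).filter (· ≤ j.val) = range (j.val + 1) := by
    ext x
    simp only [mem_filter, mem_range]
    have := j.2
    omega
  rw [this]
  generalize j.val + 1 = m
  induction m with
  | zero => simp [Nat.le_zero.1 (lastPt_le (n := n) (E := E) 0)]
  | succ m ih =>
    rw [sum_range_succ, ih]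
    exact Nat.add_sub_cancel' (lastPt_mono (Nat.le_succ m))

/-- Labels increase strictly exactly across a dimension of the flag. -/
theorem label_lt (hE : E ⊆ Ioo 0 n) (i j : Fin n) :
    Cfsg.compLabel (fun i : Fin n => 1 + i.val - (kperm n E i).val) j <
        Cfsg.compLabel (fun i : Fin n => 1 + i.val - (kperm n E i).val) i ↔
      ∃ e ∈ E, j.val < e ∧ e ≤ i.val := by
  simp only [Cfsg.compLabel, partialSum]
  constructor
  · intro h
    obtain ⟨k, hk, hk'⟩ : ∃ k : Fin n, lastPt n E (k.val + 1) ≤ i.val ∧ ¬ lastPt n E (k.val + 1) ≤ j.val := by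
      by_contra hall
      push Not at hall
      refine absurd h (not_lt.2 (card_le_card fun k hk => ?_))
      simp only [mem_filter, mem_univ, true_and] at hk ⊢
      exact hall k hk
    refine ⟨lastPt n E (k.val + 1), ?_, not_le.1 hk', hk⟩
    have hm := lastPt_mem (n := n) (E := E) (k.val + 1)
    simp only [pts, mem_insert] at hm
    rcases hm with hm | hm | hm
    · omega
    · have := i.2
      omega
    · exact hm
  · rintro ⟨e, he, hje, hei⟩
    have hb := mem_Ioo.1 (hE he)
    refine card_lt_card ⟨fun k hk => ?_, fun hsub => ?_⟩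
    · simp only [mem_filter, mem_univ, true_and] at hk ⊢
      omega
    · have hval : lastPt n E (e - 1 + 1) = e := by
        rw [show e - 1 + 1 = e by omega]
        exact lastPt_self (by simp [pts, he])
      have hk : (⟨e - 1, by omega⟩ : Fin n) ∈
          univ.filter (fun k : Fin n => lastPt n E (k.val + 1) ≤ i.val) :=
        mem_filter.2 ⟨mem_univ _, show lastPt n E (e - 1 + 1) ≤ i.val by omega⟩
      have h2 : lastPt n E (e - 1 + 1) ≤ j.val := (mem_filter.1 (hsub hk)).2
      omega

theorem mem_iff_kperm (hE : E ⊆ Ioo 0 n) (i : Fin n) (hi : i.val + 1 < n) :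
    i.val + 1 ∈ E ↔ (kperm n E i).val ≤ i.val := by
  rw [kperm_val]
  constructor
  · intro h
    rw [if_pos (by simp [pts, h])]
    exact lastPt_le _
  · intro h
    by_contra hn
    rw [if_neg (by simp [pts, hn]; omega)] at h
    omega

theorem kperm_injOn : Set.InjOn (kperm n) {E : Finset ℕ | E ⊆ Ioo 0 n} := by
  intro E hE E' hE' h
  ext e
  by_cases he : 0 < e ∧ e < n
  · have h1 := mem_iff_kperm hE ⟨e - 1, by omega⟩ (by show e - 1 + 1 < n; omega)
    have h2 := mem_iff_kperm hE' ⟨e - 1, by omega⟩ (by show e - 1 + 1 < n; omega)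
    simp only [show e - 1 + 1 = e by omega] at h1 h2
    rw [h1, h2, h]
  · constructor
    · intro hh; exact absurd (mem_Ioo.1 (hE hh)) he
    · intro hh; exact absurd (mem_Ioo.1 (hE' hh)) he

theorem exists_kperm (κ : Equiv.Perm (Fin n)) (hκ : ∀ i, (κ i).val ≤ 1 + i.val) :
    ∃ E : Finset ℕ, E ⊆ Ioo 0 n ∧ kperm n E = κ := by
  let E := ((univ.filter fun i : Fin n => (κ i).val ≤ i.val).image fun i => i.val + 1).erase n
  have hpts : ∀ i : Fin n, i.val + 1 ∈ pts n E ↔ (κ i).val ≤ i.val := fun i => by
    simp only [pts, mem_insert, E, mem_erase, mem_image, mem_filter, mem_univ, true_and]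
    constructor
    · rintro (h | h | ⟨-, k, hk, hki⟩)
      · omega
      · have := (κ i).2
        omega
      · rwa [show i = k from Fin.ext (by omega)]
    · intro h
      by_cases hn : i.val + 1 = n
      · exact Or.inr (Or.inl hn)
      · exact Or.inr (Or.inr ⟨hn, i, h, rfl⟩)
  refine ⟨E, fun e he => ?_, Equiv.ext fun i => ?_⟩
  · simp only [E, mem_erase, mem_image, mem_filter, mem_univ, true_and] at he
    obtain ⟨hne, k, -, rfl⟩ := he
    have := k.2
    exact mem_Ioo.2 ⟨by omega, by omega⟩
  induction i using WellFoundedLT.induction with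
  | _ i ih =>
    refine Fin.ext ?_
    rw [kperm_val]
    by_cases hi : i.val + 1 ∈ pts n E
    · rw [if_pos hi]
      have hx := (hpts i).1 hi
      by_contra hne
      obtain ⟨y, hy⟩ := (kperm n E).surjective (κ i)
      rcases lt_trichotomy y i with hlt | heq | hgt
      · rw [ih y hlt] at hy
        exact hlt.ne (κ.injective hy)
      · subst heq
        have := congrArg Fin.val hy
        rw [kperm_val, if_pos hi] at this
        exact hne this
      · have hv := congrArg Fin.val hy
        rw [kperm_val] at hv
        have hgt' : i.val < y.val := hgt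
        split_ifs at hv with hye
        · have h1 : lastPt n E y ≤ lastPt n E i := le_lastPt (lastPt_mem _) (by omega)
          have h2 : lastPt n E i ≤ lastPt n E y := lastPt_mono hgt'.le
          omega
        · omega
    · rw [if_neg hi]
      have := hκ i
      have := mt (hpts i).2 hi
      omega

theorem kperm_insert {e : ℕ} (he0 : 0 < e) (hen : e < n) (he : e ∉ E) :
    kperm n (insert e E) =
      Equiv.swap (⟨lastPt n E e, lt_of_le_of_lt (lastPt_le e) hen⟩ : Fin n) ⟨e, hen⟩ * kperm n E := by
  have hpe : e ∉ pts n E := by simp [pts, he]; omega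
  have hsub : ∀ {x}, x ∈ pts n (insert e E) ↔ x = e ∨ x ∈ pts n E := by
    intro x; simp [pts]; tauto
  have hne : lastPt n E e ≠ e := fun h => hpe (h ▸ lastPt_mem e)
  have hP : ∀ i, lastPt n (insert e E) i = if e ≤ i ∧ lastPt n E i < e then e else lastPt n E i := by
    intro i
    split_ifs with h
    · refine lastPt_eq (hsub.2 (Or.inl rfl)) h.1 fun y hy hyi => ?_
      rcases hsub.1 hy with rfl | hy
      · exact le_rfl
      · exact (le_lastPt hy hyi).trans h.2.le
    · refine lastPt_eq (hsub.2 (Or.inr (lastPt_mem i))) (lastPt_le i) fun y hy hyi => ?_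
      rcases hsub.1 hy with rfl | hy
      · omega
      · exact le_lastPt hy hyi
  refine Equiv.ext fun i => ?_
  rw [Equiv.Perm.mul_apply]
  by_cases hie : i.val + 1 = e
  · have h1 : kperm n E i = ⟨e, hen⟩ := Fin.ext (by rw [kperm_val, if_neg (by rwa [hie]), hie])
    rw [h1, Equiv.swap_apply_right]
    refine Fin.ext ?_
    rw [kperm_val, if_pos (hsub.2 (Or.inl hie)), hP, if_neg (by omega)]
    show _ = lastPt n E e
    rw [← hie, lastPt_succ (by rwa [hie])]
  by_cases hi : i.val + 1 ∈ pts n E
  · have hk : (kperm n E i).val = lastPt n E i := by rw [kperm_val, if_pos hi]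
    have hk' : (kperm n (insert e E) i).val = lastPt n (insert e E) i := by
      rw [kperm_val, if_pos (hsub.2 (Or.inr hi))]
    by_cases hc : e ≤ i.val ∧ lastPt n E i < e
    · have : lastPt n E i = lastPt n E e :=
        le_antisymm (le_lastPt (lastPt_mem _) hc.2.le) (lastPt_mono hc.1)
      rw [show kperm n E i = (⟨lastPt n E e, lt_of_le_of_lt (lastPt_le e) hen⟩ : Fin n) from
        Fin.ext (hk.trans this), Equiv.swap_apply_left]
      exact Fin.ext (by rw [hk', hP, if_pos hc])
    · rw [Equiv.swap_apply_of_ne_of_ne]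
      · exact Fin.ext (by rw [hk', hk, hP, if_neg hc])
      · intro h
        have h' : lastPt n E i = lastPt n E e := hk ▸ congrArg Fin.val h
        by_cases hei : e ≤ i.val
        · have := lastPt_le (n := n) (E := E) e
          exact hc ⟨hei, by omega⟩
        · have := le_lastPt hi (i := e) (by omega)
          have := lastPt_le (n := n) (E := E) i.val
          omega
      · intro h
        have h' : lastPt n E i = e := hk ▸ congrArg Fin.val h
        exact hpe (h' ▸ lastPt_mem _)
  · have hk : (kperm n E i).val = i.val + 1 := by rw [kperm_val, if_neg hi]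
    rw [Equiv.swap_apply_of_ne_of_ne]
    · refine Fin.ext ?_
      rw [hk, kperm_val, if_neg fun h => ?_]
      rcases hsub.1 h with h | h
      · exact hie h
      · exact hi h
    · intro h
      have h' : i.val + 1 = lastPt n E e := hk ▸ congrArg Fin.val h
      exact hi (h' ▸ lastPt_mem _)
    · intro h
      exact hie (hk ▸ congrArg Fin.val h)

theorem sign_kperm (hE : E ⊆ Ioo 0 n) :
    (Equiv.Perm.sign (kperm n E) : ℤ) = (-1) ^ (n - 1 - E.card) := by
  induction hm : n - 1 - E.card generalizing E with
  | zero =>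
    have hfull : E = Ioo 0 n := eq_of_subset_of_card_le hE (by rw [Nat.card_Ioo]; omega)
    have : kperm n E = 1 := by
      refine Equiv.ext fun i => Fin.ext ?_
      have hmem : ∀ x, x ≤ n → x ∈ pts n E := fun x hx => by
        simp only [pts, hfull, mem_insert, mem_Ioo]
        omega
      rw [kperm_val, if_pos (hmem _ i.2), lastPt_self (hmem _ i.2.le)]
      rfl
    simp [this]
  | succ m ih =>
    obtain ⟨e, he, heE⟩ := exists_of_ssubset (s₁ := E) (s₂ := Ioo 0 n)
      (lt_of_le_of_ne hE fun h => by rw [h, Nat.card_Ioo] at hm; omega)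
    obtain ⟨he0, hen⟩ := mem_Ioo.1 he
    have hins : insert e E ⊆ Ioo 0 n := insert_subset he hE
    have hc := card_insert_of_notMem heE
    have h := ih hins (by omega)
    rw [kperm_insert he0 hen heE, Equiv.Perm.sign_mul, Equiv.Perm.sign_swap] at h
    · rw [pow_succ, ← h]
      push_cast
      ring
    · intro hh
      have : lastPt n E e = e := congrArg Fin.val hh
      have hm' := lastPt_mem (n := n) (E := E) e
      rw [this] at hm'
      simp [pts, heE] at hm'
      omega

/-- The alternating sum over the admissible permutations as a sum over sets of dimensions. -/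
theorem sum_valid (φ : Equiv.Perm (Fin n) → ℂ) :
    (∑ κ : Equiv.Perm (Fin n), if ∀ i : Fin n, (κ i).val ≤ 1 + i.val then
        ((Equiv.Perm.sign κ : ℤ) : ℂ) * φ κ else 0) =
      ∑ E ∈ (Ioo 0 n).powerset, (-1 : ℂ) ^ (n - 1 - E.card) * φ (kperm n E) := by
  rw [← sum_filter]
  symm
  refine sum_bij (fun E _ => kperm n E) (fun E _ => mem_filter.2 ⟨mem_univ _, kperm_valid⟩)
    (fun E hE E' hE' h => kperm_injOn (mem_powerset.1 hE) (mem_powerset.1 hE') h)
    (fun κ hκ => ?_) fun E hE => ?_
  · obtain ⟨E, hE, h⟩ := exists_kperm κ (mem_filter.1 hκ).2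
    exact ⟨E, mem_powerset.2 hE, h⟩
  · rw [sign_kperm (mem_powerset.1 hE)]
    push_cast
    ring

end CfsgLib.SteinbergSemisimple
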